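import Groth.Agent.SplitHom.Locus
import Groth.Agent.FpqcDesc.Basic
import Groth.Agent.ASp.Fpqc
/-!
The clopen loci where a homomorphism of groups of multiplicative type is a monomorphism, an isomorphism, or
faithfully flat.
-/

set_option autoImplicit false
set_option backward.isDefEq.respectTransparency false
set_option backward.isDefEq.respectTransparency.types false
set_option linter.style.haveILetI false

universe u

open CategoryTheory CategoryTheory.Limits MonoidalCategory CartesianMonoidalCategory MonObj AlgebraicGeometry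

noncomputable section

namespace Groth.Agent.SplitHom

theorem surjective_of_mono {A : CommRingCat.{u}} [Nontrivial A] {K K' : Type} [CommGroup K] [CommGroup K']
    (φ : K' →* K) [Mono (Spec.map (CommRingCat.ofHom (MonoidAlgebra.mapDomainRingHom A φ)))] : Function.Surjective φ :=
  surjective_of_epi A φ fun {D} _ a b hab => by
    have h1 : Spec.map (CommRingCat.ofHom a) = Spec.map (CommRingCat.ofHom b) := by
      rw [← cancel_mono (Spec.map (CommRingCat.ofHom (MonoidAlgebra.mapDomainRingHom A φ))), ← Spec.map_comp,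
        ← Spec.map_comp, ← CommRingCat.ofHom_comp, ← CommRingCat.ofHom_comp, hab]
    exact congrArg CommRingCat.Hom.hom (Spec.map_injective h1)

theorem charIff_mono : CharIff (MorphismProperty.monomorphisms Scheme.{u}) (fun _ _ _ _ φ => Function.Surjective φ) :=
  fun A _ M M' _ _ φ => ⟨fun h => by
      haveI : Mono (Spec.map (CommRingCat.ofHom (MonoidAlgebra.mapDomainRingHom A φ))) := h
      exact surjective_of_mono (A := A) φ,
    fun h => by
      haveI := IsClosedImmersion.spec_of_surjective (CommRingCat.ofHom (MonoidAlgebra.mapDomainRingHom A φ))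
        (surjective_of_surjective A φ h)
      exact inferInstanceAs (Mono _)⟩

theorem charIff_iso : CharIff (MorphismProperty.isomorphisms Scheme.{u}) (fun _ _ _ _ φ => Function.Bijective φ) := by
  intro A _ M M' _ _ φ
  refine ⟨fun h => ?_, fun h => ?_⟩
  · haveI : IsIso (Spec.map (CommRingCat.ofHom (MonoidAlgebra.mapDomainRingHom A φ))) := h
    obtain ⟨g, hg⟩ := Spec.map_surjective (inv (Spec.map (CommRingCat.ofHom (MonoidAlgebra.mapDomainRingHom A φ))))
    have h1 : CommRingCat.ofHom (MonoidAlgebra.mapDomainRingHom A φ) ≫ g = 𝟙 _ := Spec.map_injective (by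
      rw [Spec.map_comp, hg, IsIso.inv_hom_id, Spec.map_id])
    refine ⟨(injective_iff A φ).1 ?_, surjective_of_mono (A := A) φ⟩
    intro a b hab
    have := congrArg g.hom hab
    have e : ∀ x, g.hom ((MonoidAlgebra.mapDomainRingHom A φ) x) = x := fun x => congrArg (fun m => m.hom x) h1
    rwa [e, e] at this
  · haveI : IsIso (CommRingCat.ofHom (MonoidAlgebra.mapDomainRingHom A φ)) :=
      (ConcreteCategory.isIso_iff_bijective _).2 ⟨(injective_iff A φ).2 h.1, surjective_of_surjective A φ h.2⟩
    exact inferInstanceAs (IsIso _)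

theorem charIff_flat_surjective :
    CharIff ((@Flat ⊓ @Surjective : MorphismProperty Scheme.{u})) (fun _ _ _ _ φ => Function.Injective φ) := by
  intro A _ M M' _ _ φ
  refine ⟨fun h => (injective_iff A φ).1 ?_, fun h => ?_⟩
  · exact (RingHom.FaithfullyFlat.iff_flat_and_comap_surjective.2
      ⟨(HasRingHomProperty.Spec_iff (P := @Flat)).1 h.1, h.2.surj⟩).injective
  · obtain ⟨h1, h2⟩ := flat_surjective_of_injective A φ h
    exact ⟨(HasRingHomProperty.Spec_iff (P := @Flat)).2 h1, ⟨h2⟩⟩

variable {S : Scheme.{u}} {G H : Over S} [GrpObj G] [GrpObj H]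

theorem exists_clopen_mono (hG : SGA3x.IsMultTypeFT G) (hH : SGA3x.IsMultTypeFT H) (u : G ⟶ H) [IsMonHom u] :
    ∃ U : S.Opens, IsClosed (U : Set S) ∧
      (∀ s : S, s ∈ U ↔ Mono ((Over.pullback (S.fromSpecResidueField s)).map u).left) ∧
      Mono ((Over.pullback U.ι).map u).left := by
  haveI := FpqcDesc.mono_descends.{u}
  exact exists_clopen _ _ charIff_mono hG hH u

theorem exists_clopen_iso (hG : SGA3x.IsMultTypeFT G) (hH : SGA3x.IsMultTypeFT H) (u : G ⟶ H) [IsMonHom u] :
    ∃ U : S.Opens, IsClosed (U : Set S) ∧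
      (∀ s : S, s ∈ U ↔ IsIso ((Over.pullback (S.fromSpecResidueField s)).map u).left) ∧
      IsIso ((Over.pullback U.ι).map u).left :=
  exists_clopen _ _ charIff_iso hG hH u

theorem exists_clopen_flat_surjective_of_loc (hG : WeilClosedLib.IsMultTypeLoc G) (hH : SGA3x.IsMultTypeFT H) (u : G ⟶ H)
    [IsMonHom u] :
    ∃ U : S.Opens, IsClosed (U : Set S) ∧
      (∀ s : S, s ∈ U ↔ (Flat ((Over.pullback (S.fromSpecResidueField s)).map u).left ∧
        Surjective ((Over.pullback (S.fromSpecResidueField s)).map u).left)) ∧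
      (Flat ((Over.pullback U.ι).map u).left ∧ Surjective ((Over.pullback U.ι).map u).left) := by
  haveI : (@Flat ⊓ @Surjective : MorphismProperty Scheme.{u}).DescendsAlong
      (@Surjective ⊓ @Flat ⊓ @QuasiCompact) := inferInstance
  haveI : IsZariskiLocalAtTarget (@Flat ⊓ @Surjective : MorphismProperty Scheme.{u}) := inferInstance
  exact exists_clopen_of_loc _ _ charIff_flat_surjective hG hH u

theorem exists_clopen_flat_surjective (hG : SGA3x.IsMultTypeFT G) (hH : SGA3x.IsMultTypeFT H) (u : G ⟶ H)
    [IsMonHom u] :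
    ∃ U : S.Opens, IsClosed (U : Set S) ∧
      (∀ s : S, s ∈ U ↔ (Flat ((Over.pullback (S.fromSpecResidueField s)).map u).left ∧
        Surjective ((Over.pullback (S.fromSpecResidueField s)).map u).left)) ∧
      (Flat ((Over.pullback U.ι).map u).left ∧ Surjective ((Over.pullback U.ι).map u).left) := by
  haveI : (@Flat ⊓ @Surjective : MorphismProperty Scheme.{u}).DescendsAlong
      (@Surjective ⊓ @Flat ⊓ @QuasiCompact) := inferInstance
  haveI : IsZariskiLocalAtTarget (@Flat ⊓ @Surjective : MorphismProperty Scheme.{u}) := inferInstance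
  exact exists_clopen _ _ charIff_flat_surjective hG hH u

end Groth.Agent.SplitHom
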