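import Groth.Agent.SplitHom.Props
/-!
A monomorphism of tori of the same rank is an isomorphism.
-/

set_option autoImplicit false
set_option backward.isDefEq.respectTransparency false
set_option backward.isDefEq.respectTransparency.types false
set_option linter.style.haveILetI false

universe u

open CategoryTheory CategoryTheory.Limits MonoidalCategory CartesianMonoidalCategory MonObj AlgebraicGeometry

noncomputable section

namespace Groth.Agent.SplitHom

open FixedSmooth HomTriv

variable {S : Scheme.{u}} {G H : Over S} [GrpObj G] [GrpObj H]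

theorem isMultTypeFT_of_isTorus (hG : Red.IsTorus G) : SGA3x.IsMultTypeFT G := by
  obtain ⟨S', f, h1, h2, h3, h4⟩ := hG
  refine ⟨S', f, h1, h2, h3, fun x => ?_⟩
  obtain ⟨U, hx, r, he⟩ := h4 x
  exact ⟨U, hx, Fin r → ℤ, inferInstance, inferInstance, he⟩

theorem isIso_geomFibre [IsAffineHom G.hom] [IsAffineHom H.hom] (u : G ⟶ H) [IsMonHom u] [Mono u]
    {k : Type u} [Field k] (t : Spec (CommRingCat.of k) ⟶ S) {r : ℕ} (σ : Split G t (Fin r → ℤ))
    (τ : Split H t (Fin r → ℤ)) : IsIso ((Over.pullback t).map u).left := by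
  let B : CommRingCat.{u} := CommRingCat.of k
  let P : PrimeSpectrum B := ⟨⊥, Ideal.isPrime_bot⟩
  obtain ⟨f, φ, hf, hφ⟩ := exists_char_hom σ τ u P
  have hunit : IsUnit ((𝟙 B : B ⟶ B).hom f) := IsUnit.mk0 (G₀ := k) f fun h => hf (by
    show f ∈ (⊥ : Ideal B)
    exact h)
  haveI : Mono u.left := Over.mono_left_of_mono u
  have hm : MorphismProperty.monomorphisms Scheme.{u} ((Over.pullback (Spec.map (𝟙 B) ≫ t)).map u).left :=
    MorphismProperty.of_isPullback (P := MorphismProperty.monomorphisms Scheme.{u})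
      (isPullback_bc (Spec.map (𝟙 B) ≫ t) u) (inferInstanceAs (Mono u.left))
  have hsur := (chart_iff (MorphismProperty.monomorphisms Scheme.{u}) _ charIff_mono σ τ u φ (𝟙 B)
    (hφ (𝟙 B) hunit)).1 hm
  let ψ : (Fin r → ℤ) →ₗ[ℤ] (Fin r → ℤ) := (MonoidHom.toAdditive φ : (Fin r → ℤ) →+ (Fin r → ℤ)).toIntLinearMap
  have hψ : Function.Surjective ψ := hsur
  have hinj : Function.Injective ψ := OrzechProperty.injective_of_surjective_endomorphism ψ hψ
  have hiso := (chart_iff (MorphismProperty.isomorphisms Scheme.{u}) _ charIff_iso σ τ u φ (𝟙 B)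
    (hφ (𝟙 B) hunit)).2 ⟨hinj, hsur⟩
  have e : Spec.map (𝟙 B) ≫ t = t := by rw [Spec.map_id, Category.id_comp]
  rw [e] at hiso
  exact hiso

theorem isIso_of_mono_of_sameRank (hG : Red.IsTorus G) (hH : Red.IsTorus H) (u : G ⟶ H) [IsMonHom u] [Mono u]
    (hrk : ∀ s : S, ∃ r : ℕ, Red.IsSplitTorusWith (Fin r → ℤ) (Red.geomFibre s G) ∧
      Red.IsSplitTorusWith (Fin r → ℤ) (Red.geomFibre s H)) : IsIso u := by
  have hG' := isMultTypeFT_of_isTorus hG
  have hH' := isMultTypeFT_of_isTorus hH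
  haveI : IsAffineHom G.hom := isAffineHom_of_isMultTypeLoc (WeilClosedLib.IsMultTypeLoc.of_isMultTypeFT hG')
  haveI : IsAffineHom H.hom := isAffineHom_of_isMultTypeLoc (WeilClosedLib.IsMultTypeLoc.of_isMultTypeFT hH')
  obtain ⟨U, -, hU, hiso⟩ := exists_clopen_iso hG' hH' u
  have hall : ∀ s : S, s ∈ U := fun s => by
    rw [hU]
    obtain ⟨r, ⟨e₁⟩, ⟨e₂⟩⟩ := hrk s
    obtain ⟨σ⟩ := exists_split (Red.geomPt s) _ e₁
    obtain ⟨τ⟩ := exists_split (Red.geomPt s) _ e₂
    let k := Spec.map (CommRingCat.ofHom (algebraMap (S.residueField s) (AlgebraicClosure (S.residueField s))))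
    haveI : Flat k := (HasRingHomProperty.Spec_iff (P := @Flat)).2 (MonoFibre.flat_of_field _)
    haveI : Surjective k := ⟨fun z => ⟨IsLocalRing.closedPoint (AlgebraicClosure (S.residueField s)),
      @Subsingleton.elim _ (inferInstanceAs (Subsingleton (PrimeSpectrum (S.residueField s)))) _ _⟩⟩
    exact of_fpqc (P := MorphismProperty.isomorphisms Scheme.{u}) u k rfl (isIso_geomFibre u (Red.geomPt s) σ τ)
  let c : S ⟶ U.toScheme := IsOpenImmersion.lift U.ι (𝟙 S) fun y _ => U.range_ι.superset (hall y)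
  have hid : IsIso ((Over.pullback (𝟙 S)).map u).left :=
    of_base (P := MorphismProperty.isomorphisms Scheme.{u}) u c (IsOpenImmersion.lift_fac _ _ _) hiso
  haveI : IsIso (pullback.fst G.hom (𝟙 S)) := inferInstance
  haveI : IsIso (pullback.fst H.hom (𝟙 S)) := inferInstance
  haveI : IsIso (((Over.pullback (𝟙 S)).map u).left ≫ pullback.fst H.hom (𝟙 S)) := inferInstance
  rw [← (isPullback_bc (𝟙 S) u).w] at this
  haveI : IsIso u.left := IsIso.of_isIso_comp_left (pullback.fst G.hom (𝟙 S)) u.left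
  haveI : IsIso ((Over.forget S).map u) := ‹IsIso u.left›
  exact isIso_of_reflects_iso u (Over.forget S)

end Groth.Agent.SplitHom
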