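import Groth.Agent.FixedSmooth.GroupLike
/-!
Homomorphisms of diagonalisable groups: group-likes are monomials locally, and the maps of group algebras induced by
homomorphisms of the character groups.
-/

set_option autoImplicit false

universe u

noncomputable section

namespace Groth.Agent.SplitHom

open MonoidAlgebra FixedSmooth

variable {B : Type u} [CommRing B] {G G' : Type} [CommGroup G] [CommGroup G']

/-- A multiplicative family of group-likes is monomial near every prime. -/
theorem exists_monomial [Group.FG G'] (Ψ : G' →* MonoidAlgebra B G) (hΨ : ∀ m, IsGL (Ψ m)) (P : PrimeSpectrum B) :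
    ∃ (f : B) (φ : G' →* G), f ∉ P.asIdeal ∧ ∀ {A : Type u} [CommRing A] (g : B →+* A), IsUnit (g f) →
      ∀ m, mapRingHom G g (Ψ m) = single (φ m) 1 := by
  classical
  have hk : ∀ m, ∃ k, (Ψ m).coeff k ∉ P.asIdeal := fun m => by
    by_contra h
    simp only [not_exists, not_not] at h
    exact P.isPrime.ne_top ((Ideal.eq_top_iff_one _).2 ((IsGL.sum_eq_one (hΨ m)) ▸ Submodule.sum_mem _ fun k _ => h k))
  choose k hk using hk
  have hsingle : ∀ m {A : Type u} [CommRing A] (g : B →+* A), IsUnit (g ((Ψ m).coeff (k m))) →
      mapRingHom G g (Ψ m) = single (k m) 1 := fun m A _ g hg => by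
    have h1 : g ((Ψ m).coeff (k m)) = 1 := hg.mul_eq_left.1 (by rw [← map_mul, (IsGL.idem (hΨ m))])
    ext l
    by_cases hl : k m = l
    · subst hl; simp [h1]
    · have : g ((Ψ m).coeff (k m)) * g ((Ψ m).coeff l) = 0 := by
        rw [← map_mul, (IsGL.coeff_mul (hΨ m)), if_neg hl, map_zero]
      simpa [hl, Finsupp.single_apply] using hg.mul_right_eq_zero.1 this
  let g₀ : B →+* P.asIdeal.ResidueField := algebraMap B _
  have hu₀ : ∀ m, IsUnit (g₀ ((Ψ m).coeff (k m))) := fun m =>
    IsUnit.mk0 _ (mt Ideal.algebraMap_residueField_eq_zero.1 (hk m))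
  have hsingle₀ : ∀ m, mapRingHom G g₀ (Ψ m) = single (k m) 1 := fun m => hsingle m g₀ (hu₀ m)
  have hinj : Function.Injective fun a : G => (single a 1 : MonoidAlgebra P.asIdeal.ResidueField G) := fun a b h => by
    have := congrArg (fun z => MonoidAlgebra.coeff z a) h
    simpa [Finsupp.single_apply, eq_comm] using this
  let φ : G' →* G :=
    { toFun := k
      map_one' := hinj (show single (k 1) 1 = single 1 1 by rw [← hsingle₀ 1, map_one, map_one]; rfl)
      map_mul' := fun a b => hinj (show single (k (a * b)) 1 = single (k a * k b) 1 by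
        rw [← hsingle₀, map_mul, map_mul, hsingle₀, hsingle₀, single_mul_single, mul_one]) }
  obtain ⟨s, hs⟩ := (Group.fg_def (G := G')).1 inferInstance
  refine ⟨∏ m ∈ s, (Ψ m).coeff (k m), φ, fun h => ?_, fun {A} _ g hg m => ?_⟩
  · obtain ⟨m, -, hm⟩ := P.isPrime.prod_mem_iff.1 h
    exact hk m hm
  · have h : Set.EqOn ((mapRingHom G g).toMonoidHom.comp Ψ) ((MonoidAlgebra.of A G).comp φ)
        (Subgroup.closure (s : Set G') : Set G') := MonoidHom.eqOn_closure fun m hm => by
      show mapRingHom G g (Ψ m) = single (k m) 1
      refine hsingle m g ?_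
      rw [map_prod, IsUnit.prod_iff] at hg
      exact hg m hm
    exact h (hs ▸ Subgroup.mem_top m)

variable (B)

/-- Along an injective homomorphism the group algebra is free. -/
theorem free_of_injective (f : G' →* G) (hf : Function.Injective f) :
    letI := (mapDomainRingHom B f).toAlgebra
    Module.Free (MonoidAlgebra B G') (MonoidAlgebra B G) := by
  letI := (mapDomainRingHom B f).toAlgebra
  classical
  let rep : G ⧸ f.range → G := Quotient.out
  let e : (G ⧸ f.range) × G' → G := fun x => rep x.1 * f x.2
  have he : Function.Bijective e := by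
    refine ⟨fun x y h => ?_, fun g => ?_⟩
    · have hq : ∀ x : (G ⧸ f.range) × G', ((e x : G) : G ⧸ f.range) = x.1 := fun x => by
        show ((rep x.1 * f x.2 : G) : G ⧸ f.range) = x.1
        rw [QuotientGroup.mk_mul, (QuotientGroup.eq_one_iff (N := f.range) (f x.2)).2 ⟨x.2, rfl⟩, mul_one]
        exact Quotient.out_eq _
      have h1 : x.1 = y.1 := by rw [← hq x, h, hq y]
      refine Prod.ext h1 (hf ?_)
      simp only [e, h1] at h
      exact mul_left_cancel h
    · obtain ⟨k, hk⟩ : (rep g)⁻¹ * g ∈ f.range := QuotientGroup.eq.1 (Quotient.out_eq (g : G ⧸ f.range))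
      exact ⟨((g : G ⧸ f.range), k), by simp [e, hk]⟩
  let Φ := Finsupp.linearCombination (MonoidAlgebra B G') fun q : G ⧸ f.range => (single (rep q) 1 : MonoidAlgebra B G)
  let Θ : ((G ⧸ f.range) × G' →₀ B) ≃+ ((G ⧸ f.range) →₀ MonoidAlgebra B G') :=
    Finsupp.curryAddEquiv.trans (Finsupp.mapRange.addEquiv MonoidAlgebra.coeffAddEquiv.symm)
  have key : ∀ w, Φ (Θ w) = MonoidAlgebra.ofCoeff (Finsupp.mapDomain e w) := fun w => by
    induction w using Finsupp.induction_linear with
    | zero => simp
    | add a b ha hb => simp [map_add, ha, hb, Finsupp.mapDomain_add]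
    | single x r =>
      obtain ⟨q, k⟩ := x
      have hΘ : Θ (Finsupp.single (q, k) r) = Finsupp.single q (single k r) := by
        simp [Θ, Finsupp.curryAddEquiv, Finsupp.curryEquiv, MonoidAlgebra.coeffAddEquiv]
      rw [hΘ, Finsupp.linearCombination_single, Algebra.smul_def, Finsupp.mapDomain_single]
      show mapDomain f (single k r) * single (rep q) 1 = single (rep q * f k) r
      rw [mapDomain_single, single_mul_single, mul_one, mul_comm (f k)]
  have hbij : Function.Bijective Φ := by
    have h1 : Function.Bijective (fun w => Φ (Θ w)) := by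
      simp only [funext key]
      refine MonoidAlgebra.coeffAddEquiv.symm.bijective.comp ⟨Finsupp.mapDomain_injective he.1, ?_⟩
      exact Finsupp.mapDomain_surjective he.2
    have h2 := h1.comp Θ.symm.bijective
    simpa [Function.comp_def] using h2
  exact Module.Free.of_equiv (LinearEquiv.ofBijective Φ hbij)

theorem flat_surjective_of_injective [Nontrivial B] (f : G' →* G) (hf : Function.Injective f) :
    (mapDomainRingHom B f).Flat ∧ Function.Surjective (PrimeSpectrum.comap (mapDomainRingHom B f)) := by
  letI := (mapDomainRingHom B f).toAlgebra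
  haveI := free_of_injective B f hf
  exact ⟨(inferInstance : Module.Flat (MonoidAlgebra B G') (MonoidAlgebra B G)),
    PrimeSpectrum.comap_surjective_of_faithfullyFlat⟩

theorem injective_iff [Nontrivial B] (f : G' →* G) :
    Function.Injective (mapDomainRingHom B f) ↔ Function.Injective f := by
  refine ⟨fun h a b hab => ?_, fun h => mapDomain_injective h⟩
  classical
  have h1 : (single a 1 : MonoidAlgebra B G') = single b 1 := h (by
    show mapDomain f (single a 1) = mapDomain f (single b 1)
    rw [mapDomain_single, mapDomain_single, hab])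
  have := congrArg (fun z => MonoidAlgebra.coeff z a) h1
  simpa [Finsupp.single_apply, eq_comm] using this

theorem surjective_of_surjective (f : G' →* G) (hf : Function.Surjective f) :
    Function.Surjective (mapDomainRingHom B f) := fun w => by
  induction w using MonoidAlgebra.induction_linear with
  | zero => exact ⟨0, map_zero _⟩
  | add a b ha hb => obtain ⟨a', rfl⟩ := ha; obtain ⟨b', rfl⟩ := hb; exact ⟨a' + b', map_add _ _ _⟩
  | single g r =>
    obtain ⟨g', rfl⟩ := hf g
    exact ⟨single g' r, mapDomain_single⟩

/-- Only a surjection of character groups gives an epimorphism of group algebras. -/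
theorem surjective_of_epi [Nontrivial B] (f : G' →* G)
    (h : ∀ {A : Type u} [CommRing A] (a b : MonoidAlgebra B G →+* A),
      a.comp (mapDomainRingHom B f) = b.comp (mapDomainRingHom B f) → a = b) : Function.Surjective f := by
  classical
  intro g
  have hab : mapDomainRingHom B (QuotientGroup.mk' f.range) = mapDomainRingHom B (1 : G →* G ⧸ f.range) :=
    h _ _ (MonoidAlgebra.ringHom_ext (fun c => by simp [mapDomainRingHom]) fun m => by
      have h1 : ((f m : G) : G ⧸ f.range) = 1 := (QuotientGroup.eq_one_iff _).2 ⟨m, rfl⟩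
      simp [mapDomainRingHom, h1])
  have h2 := congrArg (fun z => (z (single g 1)).coeff (1 : G ⧸ f.range)) hab
  simp [mapDomainRingHom, Finsupp.single_apply] at h2
  exact h2

end Groth.Agent.SplitHom
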