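import Groth.Agent.SplitHom.Chart
import Groth.Agent.HomTriv.Covers
import Groth.Agent.FixedSmooth.Props
import Groth.Agent.MonoFibre.Homogeneous2
/-!
Properties of homomorphisms of groups of multiplicative type which are read off from the character groups hold on a
clopen set of the base.
-/

set_option autoImplicit false
set_option backward.isDefEq.respectTransparency false
set_option backward.isDefEq.respectTransparency.types false
set_option linter.style.haveILetI false

universe u

open CategoryTheory CategoryTheory.Limits MonoidalCategory CartesianMonoidalCategory MonObj AlgebraicGeometry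

noncomputable section

namespace Groth.Agent.SplitHom

open FixedSmooth HomTriv

variable (P : MorphismProperty Scheme.{u})

section Map

variable {S : Scheme.{u}} {G H : Over S} (u : G ⟶ H)

theorem isPullback_snd {T T' : Scheme.{u}} (X : Over S) {t : T ⟶ S} {t' : T' ⟶ S} (k : T' ⟶ T) (hk : k ≫ t = t') :
    IsPullback (pullback.lift (pullback.fst X.hom t') (pullback.snd X.hom t' ≫ k)
      (by rw [Category.assoc, hk, pullback.condition]) : pullback X.hom t' ⟶ pullback X.hom t)
      (pullback.snd X.hom t') (pullback.snd X.hom t) k := by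
  subst hk
  refine IsPullback.of_right ?_ (pullback.lift_snd _ _ _) (IsPullback.of_hasPullback X.hom t)
  rw [pullback.lift_fst]
  exact IsPullback.of_hasPullback X.hom (k ≫ t)

theorem isPullback_map {T T' : Scheme.{u}} {t : T ⟶ S} {t' : T' ⟶ S} (k : T' ⟶ T) (hk : k ≫ t = t') :
    IsPullback ((Over.pullback t').map u).left
      (pullback.lift (pullback.fst G.hom t') (pullback.snd G.hom t' ≫ k)
        (by rw [Category.assoc, hk, pullback.condition]) : pullback G.hom t' ⟶ pullback G.hom t)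
      (pullback.lift (pullback.fst H.hom t') (pullback.snd H.hom t' ≫ k)
        (by rw [Category.assoc, hk, pullback.condition]) : pullback H.hom t' ⟶ pullback H.hom t)
      ((Over.pullback t).map u).left := by
  subst hk
  refine IsPullback.flip (IsPullback.of_right ?_ ?_ (isPullback_bc t u))
  · rw [pullback.lift_fst, pullback.lift_fst]
    exact isPullback_bc (k ≫ t) u
  · apply pullback.hom_ext
    · rw [Category.assoc, ← (isPullback_bc t u).w, ← Category.assoc, pullback.lift_fst, Category.assoc,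
        pullback.lift_fst]
      exact (isPullback_bc (k ≫ t) u).w
    · simp only [Category.assoc]
      have e1 : ((Over.pullback t).map u).left ≫ pullback.snd H.hom t = pullback.snd G.hom t := pullback.lift_snd _ _ _
      have e2 : ((Over.pullback (k ≫ t)).map u).left ≫ pullback.snd H.hom (k ≫ t) = pullback.snd G.hom (k ≫ t) :=
        pullback.lift_snd _ _ _
      refine ((congrArg (fun z => _ ≫ z) e1).trans (pullback.lift_snd _ _ _)).trans ?_
      refine Eq.trans ?_ (congrArg (fun z => _ ≫ z) (pullback.lift_snd _ _ _).symm)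
      rw [← Category.assoc, e2]

theorem of_base [P.IsStableUnderBaseChange] {T T' : Scheme.{u}} {t : T ⟶ S} {t' : T' ⟶ S} (k : T' ⟶ T)
    (hk : k ≫ t = t') (h : P ((Over.pullback t).map u).left) : P ((Over.pullback t').map u).left :=
  MorphismProperty.of_isPullback (isPullback_map u k hk).flip h

theorem of_fpqc [P.IsStableUnderBaseChange] [P.DescendsAlong (@Surjective ⊓ @Flat ⊓ @QuasiCompact)]
    {T T' : Scheme.{u}} {t : T ⟶ S} {t' : T' ⟶ S} (k : T' ⟶ T) [Flat k] [Surjective k] [QuasiCompact k]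
    (hk : k ≫ t = t') (h : P ((Over.pullback t').map u).left) : P ((Over.pullback t).map u).left := by
  have hsnd := isPullback_snd H k hk
  exact MorphismProperty.of_isPullback_of_descendsAlong (Q := @Surjective ⊓ @Flat ⊓ @QuasiCompact)
    (isPullback_map u k hk)
    ⟨⟨MorphismProperty.of_isPullback hsnd.flip ‹Surjective k›, MorphismProperty.of_isPullback hsnd.flip ‹Flat k›⟩,
      MorphismProperty.of_isPullback hsnd.flip ‹QuasiCompact k›⟩ h

theorem of_cover [P.IsStableUnderBaseChange] [IsZariskiLocalAtTarget P] {T : Scheme.{u}} {t : T ⟶ S}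
    (𝒰 : T.OpenCover) (h : ∀ i, P ((Over.pullback (𝒰.f i ≫ t)).map u).left) : P ((Over.pullback t).map u).left := by
  rw [IsZariskiLocalAtTarget.iff_of_openCover (P := P) (𝒰.pullback₁ (pullback.snd H.hom t))]
  intro i
  let H' := pullback H.hom (𝒰.f i ≫ t)
  let n : H' ⟶ pullback H.hom t := pullback.lift (pullback.fst H.hom (𝒰.f i ≫ t))
    (pullback.snd H.hom (𝒰.f i ≫ t) ≫ 𝒰.f i) (by rw [Category.assoc, pullback.condition])
  have hn : IsPullback n (pullback.snd H.hom (𝒰.f i ≫ t)) (pullback.snd H.hom t) (𝒰.f i) :=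
    isPullback_snd H (𝒰.f i) rfl
  let e : (𝒰.pullback₁ (pullback.snd H.hom t)).X i ≅ H' :=
    (IsPullback.of_hasPullback (pullback.snd H.hom t) (𝒰.f i)).isoIsPullback _ _ hn
  have he : e.hom ≫ n = pullback.fst _ _ :=
    (IsPullback.of_hasPullback (pullback.snd H.hom t) (𝒰.f i)).isoIsPullback_hom_fst _ _ hn
  have q : IsPullback (pullback.lift (pullback.fst G.hom (𝒰.f i ≫ t)) (pullback.snd G.hom (𝒰.f i ≫ t) ≫ 𝒰.f i)
      (by rw [Category.assoc, pullback.condition]) : pullback G.hom (𝒰.f i ≫ t) ⟶ pullback G.hom t)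
      (((Over.pullback (𝒰.f i ≫ t)).map u).left ≫ e.inv) ((Over.pullback t).map u).left
      (pullback.fst (pullback.snd H.hom t) (𝒰.f i)) :=
    (isPullback_map u (𝒰.f i) (rfl : 𝒰.f i ≫ t = _)).flip.of_iso (Iso.refl _) (Iso.refl _) e.symm (Iso.refl _)
      (by simp) (by simp) (by simp) (by
        show n ≫ _ = _
        rw [← he]
        simp)
  show P (pullback.snd ((Over.pullback t).map u).left (pullback.fst (pullback.snd H.hom t) (𝒰.f i)))
  rw [← (IsPullback.of_hasPullback ((Over.pullback t).map u).left (pullback.fst (pullback.snd H.hom t) (𝒰.f i))).isoIsPullback_hom_snd _ _ q,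
    MorphismProperty.cancel_left_of_respectsIso P, MorphismProperty.cancel_right_of_respectsIso P]
  exact h i

end Map

variable {S : Scheme.{u}} {G H : Over S} [GrpObj G] [GrpObj H]
  (Q : ∀ (M M' : Type) [AddCommGroup M] [AddCommGroup M'], (Multiplicative M' →* Multiplicative M) → Prop)

/-- The translation of the property into characters. -/
def CharIff : Prop :=
  ∀ (A : CommRingCat.{u}) [Nontrivial A] (M M' : Type) [AddCommGroup M] [AddCommGroup M']
    (φ : Multiplicative M' →* Multiplicative M),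
    P (Spec.map (CommRingCat.ofHom (MonoidAlgebra.mapDomainRingHom A φ))) ↔ Q M M' φ

theorem chart_iff [P.RespectsIso] (hQ : CharIff P Q) [IsAffineHom G.hom] [IsAffineHom H.hom] {B A : CommRingCat.{u}}
    [Nontrivial A] {t : Spec B ⟶ S} {M M' : Type} [AddCommGroup M] [AddCommGroup M'] (σ : Split G t M)
    (τ : Split H t M') (u : G ⟶ H) (φ : Multiplicative M' →* Multiplicative M) (g : B ⟶ A)
    (h : (univ (res σ g)).left ≫ u.left =
      Spec.map (CommRingCat.ofHom (MonoidAlgebra.mapDomainRingHom A φ)) ≫ (univ (res τ g)).left) :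
    P ((Over.pullback (Spec.map g ≫ t)).map u).left ↔ Q M M' φ := by
  rw [← hQ A M M' φ]
  let eG := (isPullback_univ (res σ g)).isoPullback
  let eH := (isPullback_univ (res τ g)).isoPullback
  have hw : eG.hom ≫ ((Over.pullback (Spec.map g ≫ t)).map u).left =
      Spec.map (CommRingCat.ofHom (MonoidAlgebra.mapDomainRingHom A φ)) ≫ eH.hom := by
    apply pullback.hom_ext
    · rw [Category.assoc, Category.assoc, (isPullback_univ (res τ g)).isoPullback_hom_fst,
        ← (isPullback_bc (Spec.map g ≫ t) u).w, (isPullback_univ (res σ g)).isoPullback_hom_fst_assoc, h]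
    · have e1 : ((Over.pullback (Spec.map g ≫ t)).map u).left ≫ pullback.snd H.hom (Spec.map g ≫ t) =
          pullback.snd G.hom (Spec.map g ≫ t) := pullback.lift_snd _ _ _
      rw [Category.assoc, Category.assoc, (isPullback_univ (res τ g)).isoPullback_hom_snd, e1,
        (isPullback_univ (res σ g)).isoPullback_hom_snd, ← Spec.map_comp]
      congr 1
      exact CommRingCat.hom_ext (RingHom.ext fun c => by simp [MonoidAlgebra.mapDomainRingHom])
  rw [← MorphismProperty.cancel_left_of_respectsIso P eG.hom, hw, MorphismProperty.cancel_right_of_respectsIso P]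

/-- Near a point of a chart the property holds everywhere or nowhere. -/
theorem exists_local [P.IsStableUnderBaseChange] [P.DescendsAlong (@Surjective ⊓ @Flat ⊓ @QuasiCompact)]
    (hQ : CharIff P Q) [IsAffineHom G.hom] [IsAffineHom H.hom] {B : CommRingCat.{u}}
    {t : Spec B ⟶ S} {M M' : Type} [AddCommGroup M] [AddCommGroup M'] [AddGroup.FG M'] (σ : Split G t M)
    (τ : Split H t M') (u : G ⟶ H) [IsMonHom u] (p : PrimeSpectrum B) :
    ∃ f : B, f ∉ p.asIdeal ∧
      (∀ p' : PrimeSpectrum B, f ∉ p'.asIdeal →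
        (P ((Over.pullback (S.fromSpecResidueField (t p'))).map u).left ↔
          P ((Over.pullback (S.fromSpecResidueField (t p))).map u).left)) ∧
      (P ((Over.pullback (S.fromSpecResidueField (t p))).map u).left →
        P ((Over.pullback (Spec.map (CommRingCat.ofHom (algebraMap B (Localization.Away f))) ≫ t)).map u).left) := by
  obtain ⟨f, φ, hf, hφ⟩ := exists_char_hom σ τ u p
  have key : ∀ p' : PrimeSpectrum B, f ∉ p'.asIdeal →
      (P ((Over.pullback (S.fromSpecResidueField (t p'))).map u).left ↔ Q M M' φ) := fun p' hp' => by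
    let g : B ⟶ CommRingCat.of p'.asIdeal.ResidueField := CommRingCat.ofHom (algebraMap B p'.asIdeal.ResidueField)
    let c : Spec (CommRingCat.of p'.asIdeal.ResidueField) ⟶ S := Spec.map g ≫ t
    rw [← chart_iff P Q hQ σ τ u φ g (hφ g (IsUnit.mk0 _ (mt Ideal.algebraMap_residueField_eq_zero.1 hp')))]
    have hP : c (IsLocalRing.closedPoint p'.asIdeal.ResidueField) = t p' := by
      show (Spec.map _ ≫ t) _ = _
      rw [Scheme.Hom.comp_apply]
      congr 1
      refine PrimeSpectrum.ext ?_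
      show (IsLocalRing.maximalIdeal p'.asIdeal.ResidueField).comap (algebraMap B p'.asIdeal.ResidueField) = _
      rw [IsLocalRing.maximalIdeal_eq_bot]
      exact Ideal.ker_algebraMap_residueField p'.asIdeal
    rw [← hP]
    let k : Spec (CommRingCat.of p'.asIdeal.ResidueField) ⟶
        Spec (S.residueField (c (IsLocalRing.closedPoint p'.asIdeal.ResidueField))) :=
      Spec.map (Scheme.descResidueField (Scheme.stalkClosedPointTo c))
    haveI : Flat k := (HasRingHomProperty.Spec_iff (P := @Flat)).2 (MonoFibre.flat_of_field _)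
    haveI : Surjective k := ⟨fun z => ⟨IsLocalRing.closedPoint p'.asIdeal.ResidueField,
      @Subsingleton.elim _ (inferInstanceAs (Subsingleton (PrimeSpectrum (S.residueField _)))) _ _⟩⟩
    have hk := Scheme.descResidueField_stalkClosedPointTo_fromSpecResidueField _ _ c
    exact ⟨of_base P u k hk, of_fpqc P u k hk⟩
  refine ⟨f, hf, fun p' hp' => (key p' hp').trans (key p hf).symm, fun h => ?_⟩
  haveI : Nontrivial (Localization.Away f) := by
    refine nontrivial_of_ne 0 1 fun h01 => hf ?_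
    obtain ⟨⟨a, n, rfl⟩, ha⟩ := (IsLocalization.map_eq_zero_iff (Submonoid.powers f) (Localization.Away f) (1 : B)).1
      (by rw [map_one, h01])
    exact p.isPrime.mem_of_pow_mem n (by rw [_root_.mul_one] at ha; simp only at ha; rw [ha]; exact Ideal.zero_mem _)
  exact (chart_iff P Q hQ σ τ u φ _ (hφ _ (IsLocalization.Away.algebraMap_isUnit f))).2 ((key p hf).1 h)

/-- The property holds on a clopen set, and over it. -/
theorem exists_clopen_of_loc [P.IsStableUnderBaseChange] [P.DescendsAlong (@Surjective ⊓ @Flat ⊓ @QuasiCompact)]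
    [IsZariskiLocalAtTarget P] (hQ : CharIff P Q) (hG : WeilClosedLib.IsMultTypeLoc G) (hH : SGA3x.IsMultTypeFT H)
    (u : G ⟶ H) [IsMonHom u] :
    ∃ U : S.Opens, IsClosed (U : Set S) ∧
      (∀ s : S, s ∈ U ↔ P ((Over.pullback (S.fromSpecResidueField s)).map u).left) ∧
      P ((Over.pullback U.ι).map u).left := by
  haveI : IsAffineHom G.hom := isAffineHom_of_isMultTypeLoc hG
  haveI : IsAffineHom H.hom := isAffineHom_of_isMultTypeLoc (WeilClosedLib.IsMultTypeLoc.of_isMultTypeFT hH)
  have charts : ∀ V : S.Opens, IsAffineOpen V →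
      ∃ (T : Scheme.{u}) (_ : IsAffine T) (k : T ⟶ V.toScheme) (𝒰 : T.OpenCover), Flat k ∧ Surjective k ∧
        ∀ i, ∃ (B : CommRingCat.{u}) (e : Spec B ≅ 𝒰.X i) (M M' : Type) (_ : AddCommGroup M) (_ : AddCommGroup M'),
          AddGroup.FG M' ∧ Nonempty (Split G ((e.hom ≫ 𝒰.f i ≫ k) ≫ V.ι) M) ∧
            Nonempty (Split H ((e.hom ≫ 𝒰.f i ≫ k) ≫ V.ι) M') := fun V hV => by
    obtain ⟨κ₁, _, B₁, hB₁, g₁, hf₁, hs₁, hσ₁⟩ := TrivAct.hasSplitCovers_of_isMultTypeLoc hG V hV
    haveI := hB₁
    obtain ⟨κ₂, _, B₂, g₂, hf₂, hs₂, hσ₂⟩ := (hasSplitCoversFG_of_isMultTypeFT hH).exists_over V hV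
    haveI := hf₁
    haveI := hf₂
    haveI : IsAffine V.toScheme := hV
    let X : κ₁ × κ₂ → Scheme.{u} := fun i => pullback (g₁ i.1) (g₂ i.2)
    haveI : ∀ i, IsAffine (X i) := fun i => inferInstance
    let g : ∀ i, X i ⟶ V.toScheme := fun i => pullback.fst (g₁ i.1) (g₂ i.2) ≫ g₁ i.1
    haveI : ∀ i, Flat (g i) := fun i => inferInstance
    refine ⟨∐ X, inferInstance, Sigma.desc g, sigmaOpenCover X, ?_, ⟨fun z => ?_⟩, fun i => ?_⟩
    · haveI : IsZariskiLocalAtSource (@Flat.{u}) :=
        HasRingHomProperty.instIsZariskiLocalAtSource.{u} (Q := RingHom.Flat)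
      exact IsZariskiLocalAtSource.sigmaDesc fun i => inferInstance
    · obtain ⟨i, a, ha⟩ := hs₁ z
      obtain ⟨j, b, hb⟩ := hs₂ z
      obtain ⟨w, hw, -⟩ := Scheme.Pullback.exists_preimage_pullback (f := g₁ i) (g := g₂ j) a b (ha.trans hb.symm)
      refine ⟨Sigma.ι X (i, j) w, ?_⟩
      erw [← Scheme.Hom.comp_apply, Sigma.ι_desc]
      show (pullback.fst (g₁ i) (g₂ j) ≫ g₁ i) w = z
      rw [Scheme.Hom.comp_apply, hw, ha]
    · obtain ⟨M, _, ⟨σ⟩⟩ := hσ₁ i.1
      obtain ⟨M', _, hM', ⟨τ⟩⟩ := hσ₂ i.2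
      have e : ∀ q : Spec Γ(X i, ⊤) ≅ X i, (q.hom ≫ Sigma.ι X i ≫ Sigma.desc g) ≫ V.ι =
          (q.hom ≫ g i) ≫ V.ι := fun q => by rw [Sigma.ι_desc]
      refine ⟨Γ(X i, ⊤), (X i).isoSpec.symm, M, M', inferInstance, inferInstance, hM',
        ⟨σ.comp ((X i).isoSpec.inv ≫ pullback.fst _ _) ?_⟩, ⟨τ.comp ((X i).isoSpec.inv ≫ pullback.snd _ _) ?_⟩⟩
      · refine Eq.trans ?_ (e _).symm
        simp [g]
      · refine Eq.trans ?_ (e _).symm
        simp [g, pullback.condition_assoc]
  let T : Set S := {s | P ((Over.pullback (S.fromSpecResidueField s)).map u).left}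
  have hop : ∀ R : Prop → Prop, IsOpen {s : S | R (P ((Over.pullback (S.fromSpecResidueField s)).map u).left)} := by
    intro R
    refine isOpen_iff_forall_mem_open.2 fun s hs => ?_
    obtain ⟨V, hV, hsV, -⟩ := exists_isAffineOpen_mem_and_subset (x := s) (U := ⊤) trivial
    obtain ⟨X, _, k, 𝒰, _, _, hch⟩ := charts V hV
    haveI : IsAffine V.toScheme := hV
    let A : Set S := {s : S | R (P ((Over.pullback (S.fromSpecResidueField s)).map u).left)}
    have hop : IsOpen (V.ι ⁻¹' A) := by
      rw [← (Flat.isQuotientMap_of_surjective k).isOpen_preimage]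
      refine isOpen_iff_forall_mem_open.2 fun z hz => ?_
      obtain ⟨z', hz'⟩ := 𝒰.covers z
      obtain ⟨B, e, M, M', _, _, hM', ⟨σ⟩, ⟨τ⟩⟩ := hch (𝒰.idx z)
      haveI := hM'
      let j : Spec B ⟶ X := e.hom ≫ 𝒰.f (𝒰.idx z)
      obtain ⟨p, hp⟩ : z ∈ Set.range j := ⟨e.inv z', by
        rw [← Scheme.Hom.comp_apply, Iso.inv_hom_id_assoc]; exact hz'⟩
      obtain ⟨f, hf, hloc, -⟩ := exists_local P Q hQ σ τ u p
      refine ⟨j '' (PrimeSpectrum.basicOpen f : Set (PrimeSpectrum B)), ?_,
        j.isOpenEmbedding.isOpenMap _ (PrimeSpectrum.basicOpen f).2, ⟨p, hf, hp⟩⟩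
      rintro _ ⟨p', hp', rfl⟩
      have e1 : ∀ x : Spec B, V.ι (k (j x)) = ((e.hom ≫ 𝒰.f (𝒰.idx z) ≫ k) ≫ V.ι) x := fun x => by
        simp only [j, Scheme.Hom.comp_apply]
      show R (P ((Over.pullback (S.fromSpecResidueField (V.ι (k (j p'))))).map u).left)
      rw [e1, propext (hloc p' hp'), ← e1, hp]
      exact hz
    exact ⟨V.ι '' (V.ι ⁻¹' A), Set.image_preimage_subset _ _, V.ι.isOpenEmbedding.isOpenMap _ hop,
      ⟨⟨s, hsV⟩, hs, rfl⟩⟩
  let U : S.Opens := ⟨T, hop id⟩
  refine ⟨U, ⟨hop Not⟩, fun s => Iff.rfl, ?_⟩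
  refine of_cover P u U.toScheme.affineCover fun i => ?_
  let a : U.toScheme.affineCover.X i ⟶ S := U.toScheme.affineCover.f i ≫ U.ι
  let V : S.Opens := a.opensRange
  have hV : IsAffineOpen V := isAffineOpen_opensRange a
  refine of_base P u a.isoOpensRange.hom (Scheme.Hom.isoOpensRange_hom_ι a) ?_
  obtain ⟨X, _, k, 𝒰, _, _, hch⟩ := charts V hV
  haveI : IsAffine V.toScheme := hV
  refine of_fpqc P u k rfl (of_cover P u 𝒰 fun l => ?_)
  obtain ⟨B, e, M, M', _, _, hM', ⟨σ⟩, ⟨τ⟩⟩ := hch l
  haveI := hM'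
  refine of_base P u e.inv (by simp [V]) (t := e.hom ≫ 𝒰.f l ≫ k ≫ V.ι) ?_
  choose f hf hloc hP using fun p => exists_local P Q hQ σ τ u p
  have hall : ∀ p : Spec B, ((e.hom ≫ 𝒰.f l ≫ k) ≫ V.ι) p ∈ T := fun p => by
    rw [Scheme.Hom.comp_apply]
    obtain ⟨y, hy⟩ := ((e.hom ≫ 𝒰.f l ≫ k) p).2
    rw [Scheme.Opens.ι_apply, ← hy]
    show U.ι ((U.toScheme.affineCover.f i) y) ∈ T
    exact ((U.toScheme.affineCover.f i) y).2
  have hspan : Ideal.span (Set.range f) = ⊤ := by
    by_contra hne
    obtain ⟨m, hm, hle⟩ := Ideal.exists_le_maximal _ hne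
    exact hf ⟨m, hm.isPrime⟩ (hle (Ideal.subset_span ⟨⟨m, hm.isPrime⟩, rfl⟩))
  refine of_cover P u (Scheme.affineOpenCoverOfSpanRangeEqTop f hspan).openCover fun p => ?_
  have := hP p (hall p)
  refine of_base P u (𝟙 _) ?_ this
  rw [Category.id_comp]
  simp [Category.assoc]

/-- The property holds on a clopen set, and over it, for groups of finite type. -/
theorem exists_clopen [P.IsStableUnderBaseChange] [P.DescendsAlong (@Surjective ⊓ @Flat ⊓ @QuasiCompact)]
    [IsZariskiLocalAtTarget P] (hQ : CharIff P Q) (hG : SGA3x.IsMultTypeFT G) (hH : SGA3x.IsMultTypeFT H)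
    (u : G ⟶ H) [IsMonHom u] :
    ∃ U : S.Opens, IsClosed (U : Set S) ∧
      (∀ s : S, s ∈ U ↔ P ((Over.pullback (S.fromSpecResidueField s)).map u).left) ∧
      P ((Over.pullback U.ι).map u).left :=
  exists_clopen_of_loc P Q hQ (WeilClosedLib.IsMultTypeLoc.of_isMultTypeFT hG) hH u

end Groth.Agent.SplitHom
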