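import Groth.Agent.HomTriv.Ideal
import Groth.Agent.SplitHom.Alg
/-!
A homomorphism of split groups is, near every point, induced by a homomorphism of the character groups.
-/

set_option autoImplicit false
set_option backward.isDefEq.respectTransparency false
set_option backward.isDefEq.respectTransparency.types false
set_option linter.style.haveILetI false

universe u

open CategoryTheory CategoryTheory.Limits MonoidalCategory CartesianMonoidalCategory MonObj AlgebraicGeometry

noncomputable section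

namespace Groth.Agent.SplitHom

open FixedSmooth HomTriv

variable {S : Scheme.{u}} {B : CommRingCat.{u}} {t : Spec B ⟶ S} {M M' : Type} [AddCommGroup M] [AddCommGroup M']

theorem pt_comp_left {G : Over S} [GrpObj G] (σ : Split G t M) {D E : CommRingCat.{u}} (g : B ⟶ D) (n : D ⟶ E)
    (χ : Multiplicative M →* D) :
    @Eq (Spec E ⟶ G.left) (σ.pt E (Spec.map (g ≫ n)) (n.hom.toMonoidHom.comp χ)).left
      (Spec.map n ≫ (σ.pt D (Spec.map g) χ).left) :=
  (pt_congr σ (Spec.map_comp g n) rfl).trans (congrArg CommaMorphism.left (σ.nat D E (Spec.map g) n χ)).symm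

/-- The group algebra is the coordinate ring of a split group. -/
theorem isPullback_univ {G : Over S} [GrpObj G] [IsAffineHom G.hom] (σ : Split G t M) :
    IsPullback (univ σ).left (Spec.map (gc B M)) G.hom t := by
  let P := pullback G.hom t
  haveI : IsAffine P := isAffine_of_isAffineHom (pullback.snd G.hom t)
  let m : Spec (GA B M) ⟶ P := pullback.lift (univ σ).left (Spec.map (gc B M)) (Over.w (univ σ))
  obtain ⟨D, ⟨eP⟩⟩ : ∃ D : CommRingCat.{u}, Nonempty (P ≅ Spec D) := ⟨_, ⟨P.isoSpec⟩⟩
  obtain ⟨g, hg⟩ := Spec.map_surjective (eP.inv ≫ pullback.snd G.hom t)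
  let x : Over.mk (Spec.map g ≫ t) ⟶ G := Over.homMk (eP.inv ≫ pullback.fst G.hom t) (by
    show (_ ≫ pullback.fst G.hom t) ≫ G.hom = Spec.map g ≫ t
    rw [hg, Category.assoc, Category.assoc, pullback.condition])
  obtain ⟨χ, hχ⟩ := (σ.pt _ (Spec.map g)).surjective x
  have hev : Spec.map (gev g χ) ≫ Spec.map (gc B M) = Spec.map g := by
    rw [← Spec.map_comp]
    congr 1
    exact CommRingCat.hom_ext (L_comp_single g.hom χ)
  have h1 : (Spec.map (gev g χ) ≫ m) = eP.inv := by
    apply pullback.hom_ext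
    · rw [Category.assoc, pullback.lift_fst, ← pt_left, hχ]
      rfl
    · rw [Category.assoc, pullback.lift_snd, hev, hg]
  obtain ⟨n, hn⟩ := Spec.map_surjective (m ≫ eP.hom)
  have hgn : g ≫ n = gc B M := Spec.map_injective (by
    rw [Spec.map_comp, hn, hg, Category.assoc, Iso.hom_inv_id_assoc, pullback.lift_snd])
  have h2 : (σ.pt (GA B M) (Spec.map (g ≫ n)) (n.hom.toMonoidHom.comp χ)) =
      σ.pt (GA B M) (Spec.map (g ≫ n)) (MonoidAlgebra.of B (Multiplicative M)) := by
    apply Over.OverMorphism.ext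
    refine (pt_comp_left σ g n χ).trans (Eq.trans ?_ (pt_congr σ (congrArg Spec.map hgn).symm rfl))
    rw [hχ]
    show Spec.map n ≫ eP.inv ≫ pullback.fst G.hom t = (univ σ).left
    rw [hn, Category.assoc, Iso.hom_inv_id_assoc, pullback.lift_fst]
  have h3 : gev g χ ≫ n = 𝟙 (GA B M) := by
    refine CommRingCat.hom_ext ?_
    show n.hom.comp (L g.hom χ) = RingHom.id _
    rw [comp_L, (σ.pt _ _).injective h2, show n.hom.comp g.hom = (gc B M).hom from congrArg CommRingCat.Hom.hom hgn]
    exact MonoidAlgebra.ringHom_ext (fun c => by simp) (fun m => by simp)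
  haveI : IsIso m := by
    refine ⟨eP.hom ≫ Spec.map (gev g χ), ?_, ?_⟩
    · rw [← Category.assoc, ← hn, ← Spec.map_comp, h3, Spec.map_id]
    · rw [Category.assoc, h1, Iso.hom_inv_id]
  exact IsPullback.of_iso_pullback ⟨Over.w (univ σ)⟩ (asIso m) (pullback.lift_fst _ _ _) (pullback.lift_snd _ _ _)

variable {G H : Over S} [GrpObj G] [GrpObj H]

/-- Near every point a homomorphism of split groups is given by a map of characters. -/
theorem exists_char_hom [AddGroup.FG M'] (σ : Split G t M) (τ : Split H t M') (u : G ⟶ H) [IsMonHom u]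
    (P : PrimeSpectrum B) :
    ∃ (f : B) (φ : Multiplicative M' →* Multiplicative M), f ∉ P.asIdeal ∧
      ∀ {A : CommRingCat.{u}} (g : B ⟶ A), IsUnit (g.hom f) →
        (univ (res σ g)).left ≫ u.left =
          Spec.map (CommRingCat.ofHom (MonoidAlgebra.mapDomainRingHom A φ)) ≫ (univ (res τ g)).left := by
  let Ψ : Multiplicative M' →* GA B M := (τ.pt (GA B M) (Spec.map (gc B M))).symm (univ σ ≫ u)
  -- the image of an arbitrary point
  have hu : ∀ {D : CommRingCat.{u}} (g : B ⟶ D) (χ : Multiplicative M →* D),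
      σ.pt D (Spec.map g) χ ≫ u = τ.pt D (Spec.map g) ((L g.hom χ).toMonoidHom.comp Ψ) := fun {D} g χ => by
    apply Over.OverMorphism.ext
    have e : Spec.map g = Spec.map (gev g χ) ≫ Spec.map (gc B M) := by
      rw [← Spec.map_comp]
      congr 1
      exact CommRingCat.hom_ext (L_comp_single g.hom χ).symm
    rw [pt_congr τ e rfl, Over.comp_left, pt_left]
    show _ = (τ.pt D (Spec.map (gev g χ) ≫ Spec.map (gc B M)) ((gev g χ).hom.toMonoidHom.comp Ψ)).left
    rw [← τ.nat]
    show _ = Spec.map (gev g χ) ≫ (τ.pt (GA B M) (Spec.map (gc B M)) Ψ).left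
    rw [MulEquiv.apply_symm_apply, Over.comp_left, Category.assoc]
  have hGL : ∀ m, IsGL (Ψ m) := fun m => fun {B'} _ f χ χ' => by
    let g : B ⟶ CommRingCat.of B' := CommRingCat.ofHom f
    have hmul : τ.pt _ (Spec.map g) ((L g.hom (χ * χ')).toMonoidHom.comp Ψ) =
        τ.pt _ (Spec.map g) ((L g.hom χ).toMonoidHom.comp Ψ * (L g.hom χ').toMonoidHom.comp Ψ) := by
      rw [map_mul, ← hu, ← hu, ← hu, map_mul, MonObj.mul_comp]
    have hone : τ.pt _ (Spec.map g) ((L g.hom (1 : Multiplicative M →* B')).toMonoidHom.comp Ψ) =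
        τ.pt _ (Spec.map g) 1 := by
      rw [← hu, map_one, map_one, MonObj.one_comp]
    exact ⟨DFunLike.congr_fun ((τ.pt _ _).injective hmul) m, DFunLike.congr_fun ((τ.pt _ _).injective hone) m⟩
  obtain ⟨f, φ, hf, hφ⟩ := exists_monomial Ψ hGL P
  refine ⟨f, φ, hf, fun {A} g hg => ?_⟩
  rw [univ_res, univ_res, Category.assoc, ← Over.comp_left]
  have e : univ σ ≫ u = τ.pt (GA B M) (Spec.map (gc B M)) Ψ := (MulEquiv.apply_symm_apply _ _).symm
  rw [e, pt_left]
  simp only [← Category.assoc, ← Spec.map_comp]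
  refine congrArg (fun z => Spec.map z ≫ (univ τ).left) (CommRingCat.hom_ext ?_)
  show (MonoidAlgebra.mapRingHom _ g.hom).comp (L (gc B M).hom Ψ) =
    (MonoidAlgebra.mapDomainRingHom A φ).comp (MonoidAlgebra.mapRingHom _ g.hom)
  refine MonoidAlgebra.ringHom_ext (fun c => ?_) (fun m => ?_)
  · simp [MonoidAlgebra.mapDomainRingHom]
  · have := hφ g.hom hg m
    simpa [MonoidAlgebra.mapDomainRingHom, ← MonoidAlgebra.one_def] using this

end Groth.Agent.SplitHom
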